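import Mathlib
import Cfsg.Agent.Helper93.HKKLG

/-!
# S3777 (Vaughan-Lee): common definitions (helper45)

`adz z k : A G k →+ A G (1 + k)` is bracketing with the class of `z` in `G/G'`
(graded pieces `A G k = γ_k/γ_{k+1}` and `brkFun` are from `Cfsg.Agent.Helper93.HKKLG`).
`FormData G p` packages the `F_p`-spaces `V = A₁/pA₁`, `W = A₂/pA₂` and the alternating
form `ω : V × V → W` induced by the bracket.
-/

set_option autoImplicit false

universe u

namespace Cfsg.Agent.Helper45.VL

open Cfsg.Agent.Helper1.HKK Cfsg.Agent.Helper93.HKKLG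

variable {G : Type u} [Group G]

/-- bracketing with the class of `z` in `γ_1/γ_2`, as an additive map `γ_k/γ_{k+1} → γ_{1+k}/γ_{2+k}`. -/
noncomputable def adz (z : G) (k : ℕ) : A G k →+ A G (1 + k) :=
  AddMonoidHom.mk' (fun a => brkFun (cls 1 z) a) (fun a b => brkFun_add_right (cls 1 z) a b)

theorem adz_apply (z : G) (k : ℕ) (a : A G k) : adz z k a = brkFun (cls 1 z) a := rfl

/-- the `F_p`-form attached to `G`: `V = A₁/pA₁`, `W = A₂/pA₂`, `ω` induced by `brkFun`. -/
structure FormData (G : Type u) [Group G] (p : ℕ) [Fact p.Prime] where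
  V : Type u
  W : Type u
  [instV : AddCommGroup V]
  [modV : Module (ZMod p) V]
  [finV : Finite V]
  [instW : AddCommGroup W]
  [modW : Module (ZMod p) W]
  π₁ : A G 1 →+ V
  π₂ : A G (1 + 1) →+ W
  ω : V →ₗ[ZMod p] V →ₗ[ZMod p] W
  surj₁ : Function.Surjective π₁
  surj₂ : Function.Surjective π₂
  ker₁ : ∀ a : A G 1, π₁ a = 0 ↔ ∃ c : A G 1, a = p • c
  ker₂ : ∀ a : A G (1 + 1), π₂ a = 0 ↔ ∃ c : A G (1 + 1), a = p • c
  comp : ∀ a b : A G 1, ω (π₁ a) (π₁ b) = π₂ (brkFun a b)
  alt : ∀ v : V, ω v v = 0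
  span_top : Submodule.span (ZMod p) {w : W | ∃ x y : V, w = ω x y} = ⊤

attribute [instance] FormData.instV FormData.modV FormData.finV FormData.instW FormData.modW

end Cfsg.Agent.Helper45.VL
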