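import Mathlib
import Cfsg.Agent.Helper45.VL.Defs
import Cfsg.Agent.Helper93.VL_NAK
import Cfsg.Agent.Helper93.VL_PGRP
import Cfsg.Agent.Helper79.VL_SUB1
import Cfsg.Agent.Helper49.VL_SUB2
import Cfsg.Agent.Helper90.VL_LA3
import Cfsg.Agent.Helper49.VL_LA4
import Cfsg.Agent.Helper68.VL_ACC1
import Cfsg.Agent.Helper79.VL_L1
import Cfsg.Agent.Helper79.VL_MEET
import Cfsg.Agent.Helper50.VL_HYPA
import Cfsg.Agent.Helper50.VL_CARD
import Cfsg.Agent.Helper93.VL_GEN
import Cfsg.Agent.Helper57.VL_LA1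
import Cfsg.Agent.Helper57.VL_LA5
import Cfsg.Agent.Helper50.VL_HYP
import Cfsg.Agent.Helper90.VL_LA2
import Cfsg.Agent.Helper50.VL_L2
import Cfsg.Agent.Helper50.VL_FORM
import Cfsg.Agent.Helper57.VL_F1

set_option autoImplicit false

universe u

namespace Cfsg.Agent.Helper45.VL

open Cfsg.Agent.Helper1.HKK Cfsg.Agent.Helper93.HKKLG

variable {G : Type u} [Group G]

section LAglue

variable {K V W : Type*} [Field K] [Fintype K] [AddCommGroup V] [Module K V] [Finite V]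
  [AddCommGroup W] [Module K W]

theorem exists_isolated_basis' (ω : V →ₗ[K] V →ₗ[K] W) (halt : ∀ v, ω v v = 0)
    (hspan : Submodule.span K {w : W | ∃ x y : V, w = ω x y} = ⊤)
    (hyp : ∀ X : Submodule K V, X ≠ ⊤ →
      Submodule.span K {w : W | ∃ x ∈ X, ∃ y ∈ X, w = ω x y} ≠ ⊤) :
    ∃ (d : ℕ) (b : Module.Basis (Fin d) K V), ∀ (i : Fin d) (y : V), ω (b i) y = 0 →
      y ∈ Submodule.span K {b i} := by
  classical
  by_cases hd : Module.finrank K V ≤ 2
  · exact ⟨_, Module.finBasis K V, fun i y hy =>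
      Cfsg.Agent.Helper57.VL.la_small ω halt hspan hyp hd _ ((Module.finBasis K V).ne_zero i) y hy⟩
  · have h3 : 3 ≤ Module.finrank K V := by omega
    have hR : ∀ α : Module.Dual K V, α ≠ 0 → ∃ R : Submodule K V, R ≤ LinearMap.ker α ∧
        Module.finrank K R + 2 = Module.finrank K V ∧
        ∀ z : V, α z = 0 → z ∉ R → ∀ y : V, ω z y = 0 → α y = 0 := fun α hα =>
      Cfsg.Agent.Helper57.VL.la_hyperplane ω halt hspan α hα
        (hyp (LinearMap.ker α) (fun h => hα (LinearMap.ker_eq_top.mp h)))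
    choose! R hR using hR
    refine Cfsg.Agent.Helper49.VL.la_basis_of_forall_functional (K := K)
      (fun z : V => ∀ y : V, ω z y = 0 → y ∈ Submodule.span K {z}) ?_
    intro α₀ hα₀
    obtain ⟨z, hz0, hcard⟩ :=
      Cfsg.Agent.Helper90.VL.la_count R (fun α hα => ⟨(hR α hα).1, (hR α hα).2.1⟩) h3 α₀ hα₀
    refine ⟨z, hz0, fun y hy => ?_⟩
    have hzne : z ≠ 0 := by
      rintro rfl
      simp at hz0
    refine Cfsg.Agent.Helper90.VL.la_isolated_of_count z hzne {α : Module.Dual K V | α ≠ 0 ∧ α z = 0 ∧ z ∉ R α}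
      (fun α hα => ⟨hα.1, hα.2.1⟩) hcard (by omega) y
      (fun α hα => (hR α hα.1).2.2 z hα.2.1 hα.2.2 y hy)

end LAglue

theorem arith_vl (b d : ℕ) : b * d ≤ b * (b + 1) / 2 + d * (d - 1) / 2 := by
  have h1 : 2 * (b * (b + 1) / 2) = b * (b + 1) :=
    Nat.two_mul_div_two_of_even (Nat.even_mul_succ_self b)
  have h2 : 2 * (d * (d - 1) / 2) = d * (d - 1) :=
    Nat.two_mul_div_two_of_even (Nat.even_mul_pred_self d)
  generalize b * (b + 1) / 2 = s at h1 ⊢
  generalize d * (d - 1) / 2 = t at h2 ⊢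
  rcases Nat.eq_zero_or_pos d with rfl | hd
  · simp
  obtain ⟨e, rfl⟩ : ∃ e, d = e + 1 := ⟨d - 1, by omega⟩
  simp only [Nat.add_sub_cancel] at h2
  rcases le_total (e + 1) b with h | h
  · obtain ⟨f, rfl⟩ := Nat.exists_eq_add_of_le h
    nlinarith
  · obtain ⟨f, hf⟩ := Nat.exists_eq_add_of_le h
    have he : e = b + f - 1 := by omega
    rcases Nat.eq_zero_or_pos f with rfl | hf0
    · simp only [add_zero] at hf
      subst hf
      nlinarith
    · obtain ⟨g, rfl⟩ : ∃ g, f = g + 1 := ⟨f - 1, by omega⟩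
      have he' : e = b + g := by omega
      subst he'
      nlinarith

theorem prod_pow_fin (p d : ℕ) : ∏ i : Fin d, p ^ (i : ℕ) = p ^ (d * (d - 1) / 2) := by
  rw [Finset.prod_pow_eq_pow_sum, Fin.sum_univ_eq_sum_range (fun i => i) d, Finset.sum_range_id]

theorem main_min [Finite G] {p : ℕ} [Fact p.Prime] (hG : IsPGroup p G) (b : ℕ)
    (hb : ∀ x : G, (Subgroup.centralizer ({x} : Set G)).index ≤ p ^ b)
    (hmin : ∀ M : Subgroup G, M ≠ ⊤ → (⁅M, M⁆ : Subgroup G) ≠ commutator G) :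
    Nat.card ↥(commutator G) ≤ p ^ (b * (b + 1) / 2) := by
  classical
  have hp : 0 < p := (Fact.out : p.Prime).pos
  obtain ⟨F⟩ := Cfsg.Agent.Helper50.VL.nonempty_formData (G := G) p
  have hnak1 : ∀ B : AddSubgroup (A G 1),
      (∀ a : A G 1, ∃ b ∈ B, ∃ c : A G 1, a = b + p • c) → B = ⊤ :=
    fun B h => Cfsg.Agent.Helper93.VL.nak (Cfsg.Agent.Helper93.VL.A_pgroup hG 1) B h
  have hnak2 : ∀ B : AddSubgroup (A G (1 + 1)),
      (∀ a : A G (1 + 1), ∃ b ∈ B, ∃ c : A G (1 + 1), a = b + p • c) → B = ⊤ :=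
    fun B h => Cfsg.Agent.Helper93.VL.nak (Cfsg.Agent.Helper93.VL.A_pgroup hG (1 + 1)) B h
  have hnil : ∀ N : Subgroup G, N.Normal → N ≤ Gam G 2 → Gam G 2 ≤ N ⊔ Gam G 3 →
      N = Gam G 2 := fun N hN h1 h2 => @Cfsg.Agent.Helper50.VL.eq_Gam2_of_le_sup_Gam3 _ _ _ _ _ hG N hN h1 h2
  have hyp := Cfsg.Agent.Helper50.VL.hyp_of_min F hnak2 hnil hmin
  obtain ⟨d, bs, hiso⟩ := exists_isolated_basis' F.ω F.alt F.span_top hyp
  have hz : ∀ i, ∃ g : G, F.π₁ (cls 1 g) = bs i := fun i => by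
    obtain ⟨a, ha⟩ := F.surj₁ (bs i)
    obtain ⟨x, _, rfl⟩ := cls_surj 1 a
    exact ⟨x, ha⟩
  choose z hz using hz
  have hgen := Cfsg.Agent.Helper79.VL.lift_generates F hnak1 bs z hz
  have hcard := Cfsg.Agent.Helper50.VL.lift_card_le F bs hiso z hz
  -- nilpotency
  have hnilp : Group.IsNilpotent G := hG.isNilpotent
  obtain ⟨n, hn⟩ := Subgroup.nilpotent_iff_lowerCentralSeries.mp hnilp
  have hN : Gam G ((n + 1) + 2) = ⊥ := by
    have : Gam G ((n + 1) + 2) ≤ Gam G (n + 1) := Gam_anti (by omega)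
    have h2 : Gam G (n + 1) = ⊥ := by
      unfold Gam
      simpa using hn
    rw [h2] at this
    exact le_bot_iff.mp this
  rw [Cfsg.Agent.Helper50.VL.card_commutator_eq_prod (n + 1) hN]
  -- the two kinds of factor bounds
  have hk0 : Nat.card (A G (1 + (0 + 1))) * ∏ i : Fin d, p ^ (i : ℕ) ≤
      ∏ i : Fin d, Nat.card ↥(adz (z i) (0 + 1)).range := by
    refine Cfsg.Agent.Helper68.VL.card_mul_prod_le (fun i => (adz (z i) (0 + 1)).range)
      (Cfsg.Agent.Helper93.VL.iSup_adz_range_eq_top z hgen (0 + 1) (by omega)) (fun i => p ^ (i : ℕ)) (fun i => ?_)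
    refine le_trans (hcard i) ?_
    exact AddSubgroup.card_le_of_le (Cfsg.Agent.Helper79.VL.map_closure_le_meet z i)
  have hk1 : ∀ k : ℕ, Nat.card (A G (1 + ((k + 1) + 1))) ≤
      ∏ i : Fin d, Nat.card ↥(adz (z i) ((k + 1) + 1)).range := by
    intro k
    have := Cfsg.Agent.Helper68.VL.card_mul_prod_le (fun i => (adz (z i) ((k + 1) + 1)).range)
      (Cfsg.Agent.Helper93.VL.iSup_adz_range_eq_top z hgen ((k + 1) + 1) (by omega)) (fun _ => 1)
      (fun i => Nat.one_le_iff_ne_zero.mpr (Nat.card_pos.ne'))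
    simpa using this
  have hmain : (∏ k ∈ Finset.range (n + 1), Nat.card (A G (1 + (k + 1)))) *
      ∏ i : Fin d, p ^ (i : ℕ) ≤
      ∏ k ∈ Finset.range (n + 1), ∏ i : Fin d, Nat.card ↥(adz (z i) (k + 1)).range := by
    rw [Finset.prod_range_succ' (fun k => Nat.card (A G (1 + (k + 1)))),
      Finset.prod_range_succ' (fun k => ∏ i : Fin d, Nat.card ↥(adz (z i) (k + 1)).range),
      mul_assoc]
    exact Nat.mul_le_mul (Finset.prod_le_prod' (fun k _ => hk1 k)) hk0
  have hswap : ∏ k ∈ Finset.range (n + 1), ∏ i : Fin d, Nat.card ↥(adz (z i) (k + 1)).range ≤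
      p ^ (b * d) := by
    rw [Finset.prod_comm]
    calc ∏ i : Fin d, ∏ k ∈ Finset.range (n + 1), Nat.card ↥(adz (z i) (k + 1)).range
        ≤ ∏ _i : Fin d, p ^ b :=
          Finset.prod_le_prod' (fun i _ => le_trans (Cfsg.Agent.Helper57.VL.prod_card_adz_range_le (z i) (n + 1)) (hb (z i)))
      _ = p ^ (b * d) := by
          rw [Finset.prod_const, Finset.card_univ, Fintype.card_fin, ← pow_mul]
  rw [prod_pow_fin] at hmain
  have hfin : (∏ k ∈ Finset.range (n + 1), Nat.card (A G (1 + (k + 1)))) *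
      p ^ (d * (d - 1) / 2) ≤ p ^ (b * (b + 1) / 2) * p ^ (d * (d - 1) / 2) := by
    refine le_trans hmain (le_trans hswap ?_)
    rw [← pow_add]
    exact Nat.pow_le_pow_right hp (arith_vl b d)
  exact Nat.le_of_mul_le_mul_right hfin (pow_pos hp _)

theorem vaughan_lee : ∀ (n : ℕ) {G : Type u} [Group G] [Finite G] {p : ℕ} [Fact p.Prime],
    Nat.card G = n → IsPGroup p G → ∀ b : ℕ,
    (∀ x : G, (Subgroup.centralizer ({x} : Set G)).index ≤ p ^ b) →
    Nat.card ↥(commutator G) ≤ p ^ (b * (b + 1) / 2) := by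
  intro n
  induction n using Nat.strong_induction_on with
  | _ n ih =>
    intro G _ _ p _ hn hG b hb
    by_cases hmin : ∀ M : Subgroup G, M ≠ ⊤ → (⁅M, M⁆ : Subgroup G) ≠ commutator G
    · exact main_min hG b hb hmin
    · push_neg at hmin
      obtain ⟨M, hM, hMc⟩ := hmin
      have hlt : Nat.card ↥M < n := by
        rw [← hn]
        exact lt_of_le_of_ne (Subgroup.card_le_card_group M)
          (fun h => hM (Subgroup.eq_top_of_card_eq M h))
      have h := ih (Nat.card ↥M) hlt (G := ↥M) (p := p) rfl (hG.to_subgroup M) b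
        (fun x => le_trans (Cfsg.Agent.Helper79.VL.index_centralizer_subgroup_le M x) (hb (x : G)))
      rw [Cfsg.Agent.Helper49.VL.card_commutator_subgroup, hMc] at h
      exact h

end Cfsg.Agent.Helper45.VL
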